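import Mathlib
import Groth.Prelude.Def_CAlgX
import Groth.Prelude.Def_W4stkadequatePure

/-! Pure projective and pure injective modules. -/

universe u

namespace Groth.Agent.PureExtLib

open CAlgX TensorProduct

variable (R : Type u) [CommRing R]

/-- lifting along pure surjections -/
def PProj (P : Type u) [AddCommGroup P] [Module R P] : Prop :=
  ∀ ⦃L N : Type u⦄ [AddCommGroup L] [Module R L] [AddCommGroup N] [Module R N] (g : L →ₗ[R] N),
    Function.Surjective g → UniversallyInjective R (LinearMap.ker g).subtype →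
    ∀ φ : P →ₗ[R] N, ∃ ψ : P →ₗ[R] L, g ∘ₗ ψ = φ

/-- extension along universally injective maps -/
def PInj (I : Type u) [AddCommGroup I] [Module R I] : Prop :=
  ∀ ⦃K L : Type u⦄ [AddCommGroup K] [Module R K] [AddCommGroup L] [Module R L] (f : K →ₗ[R] L),
    UniversallyInjective R f → ∀ φ : K →ₗ[R] I, ∃ ψ : L →ₗ[R] I, ψ ∘ₗ f = φ

variable {R}
variable {K L M : Type u} [AddCommGroup K] [Module R K] [AddCommGroup L] [Module R L]
  [AddCommGroup M] [Module R M]

theorem ui_of_dual_section (f : K →ₗ[R] L) (s : CharacterModule K →ₗ[R] CharacterModule L)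
    (h : ∀ c x, s c (f x) = c x) : UniversallyInjective R f := by
  intro Q _ _
  refine (injective_iff_map_eq_zero _).2 fun z hz => CharacterModule.eq_zero_of_character_apply fun c => ?_
  let D : CharacterModule (Q ⊗[R] L) := CharacterModule.uncurry (s.comp (CharacterModule.curry
    (CharacterModule.dual (TensorProduct.comm R Q K).toLinearMap c)))
  have key : ∀ z : K ⊗[R] Q, D (TensorProduct.comm R L Q (f.rTensor Q z)) = c z := by
    intro z
    induction z with
    | zero => rw [map_zero, map_zero, map_zero, map_zero]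
    | tmul k q =>
      rw [LinearMap.rTensor_tmul, TensorProduct.comm_tmul]
      exact h _ k
    | add a b ha hb => rw [map_add, map_add, map_add, map_add, ha, hb]
  rw [← key z, hz, map_zero, map_zero]

theorem exists_dual_section {f : K →ₗ[R] L} (hf : UniversallyInjective R f) :
    ∃ s : CharacterModule K →ₗ[R] CharacterModule L, ∀ c x, s c (f x) = c x := by
  have h : Function.Injective (f.lTensor (CharacterModule K)) := by
    have e : f.lTensor (CharacterModule K) = (TensorProduct.comm R L (CharacterModule K)).toLinearMap ∘ₗ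
        (f.rTensor (CharacterModule K)) ∘ₗ (TensorProduct.comm R (CharacterModule K) K).toLinearMap := by
      ext; simp
    rw [e]
    exact (TensorProduct.comm R L _).injective.comp ((hf _).comp (TensorProduct.comm R _ K).injective)
  obtain ⟨c, hc⟩ := CharacterModule.dual_surjective_of_injective _ h
    (CharacterModule.uncurry (LinearMap.id : CharacterModule K →ₗ[R] CharacterModule K))
  exact ⟨CharacterModule.curry c, fun χ x => DFunLike.congr_fun hc (χ ⊗ₜ x)⟩

theorem pinj_character (M : Type u) [AddCommGroup M] [Module R M] : PInj R (CharacterModule M) := by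
  intro K L _ _ _ _ f hf φ
  obtain ⟨s, hs⟩ := exists_dual_section hf
  let fl : M →ₗ[R] CharacterModule K :=
    { toFun := fun m => { toFun := fun k => φ k m
                          map_zero' := by rw [map_zero]; rfl
                          map_add' := fun a b => by rw [map_add]; rfl }
      map_add' := fun a b => by ext k; exact map_add (φ k) a b
      map_smul' := fun r m => by
        ext k
        exact (show φ (r • k) m = φ k (r • m) by rw [map_smul]; rfl).symm }
  let t := s.comp fl
  refine ⟨{ toFun := fun l => { toFun := fun m => t m l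
                                map_zero' := by rw [map_zero]; rfl
                                map_add' := fun a b => by rw [map_add]; rfl }
            map_add' := fun a b => by ext m; exact map_add (t m) a b
            map_smul' := fun r l => by
              ext m
              exact (show t (r • m) l = t m (r • l) by rw [map_smul]; rfl).symm }, ?_⟩
  ext k m
  exact hs (fl m) k

theorem pinj_of_retract {I J : Type u} [AddCommGroup I] [Module R I] [AddCommGroup J] [Module R J]
    (i : I →ₗ[R] J) (r : J →ₗ[R] I) (h : r ∘ₗ i = LinearMap.id) (hJ : PInj R J) : PInj R I := by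
  intro K L _ _ _ _ f hf φ
  obtain ⟨ψ, hψ⟩ := hJ f hf (i ∘ₗ φ)
  exact ⟨r ∘ₗ ψ, by rw [LinearMap.comp_assoc, hψ, ← LinearMap.comp_assoc, h, LinearMap.id_comp]⟩

theorem ui_charEval (M : Type u) [AddCommGroup M] [Module R M] :
    UniversallyInjective R (PureExt.charEval R M) :=
  ui_of_dual_section _ (PureExt.charEval R (CharacterModule M)) fun _ _ => rfl

theorem ui_injective {f : K →ₗ[R] L} (hf : UniversallyInjective R f) : Function.Injective f := by
  intro a b hab
  have := hf R (a₁ := a ⊗ₜ 1) (a₂ := b ⊗ₜ 1) (by simp [hab])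
  simpa using congrArg (TensorProduct.rid R K) this

/-- if every map from a finitely presented module lifts, the kernel inclusion is universally injective -/
theorem ui_ker_of_lift (g : L →ₗ[R] M)
    (h : ∀ (T : Type u) [AddCommGroup T] [Module R T], Module.FinitePresentation R T →
      ∀ φ : T →ₗ[R] M, ∃ ψ : T →ₗ[R] L, g ∘ₗ ψ = φ) :
    UniversallyInjective R (LinearMap.ker g).subtype := by
  classical
  intro Q _ _
  refine (injective_iff_map_eq_zero _).2 fun z hz => ?_
  let π : (Q →₀ R) →ₗ[R] Q := Finsupp.linearCombination R id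
  have hπ : Function.Surjective π := fun q => ⟨Finsupp.single q 1, by simp [π]⟩
  obtain ⟨z', rfl⟩ := LinearMap.lTensor_surjective (LinearMap.ker g) hπ z
  have hz' : π.lTensor L ((LinearMap.ker g).subtype.rTensor (Q →₀ R) z') = 0 := by
    rw [← LinearMap.comp_apply, LinearMap.lTensor_comp_rTensor, ← LinearMap.rTensor_comp_lTensor]
    exact hz
  obtain ⟨w, hw⟩ := (lTensor_exact L (M := LinearMap.ker π) (N := Q →₀ R) (f := (LinearMap.ker π).subtype) (g := π) (LinearMap.exact_subtype_ker_map π) hπ _).1 hz'
  obtain ⟨k, y, r, rfl⟩ := TensorProduct.exists_sum_tmul_eq w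
  set c : Q →₀ LinearMap.ker g := finsuppScalarRight R R (LinearMap.ker g) Q z' with hc
  have hcoord : ∀ x : Q, (c x : L) = ∑ j, (r j : Q →₀ R) x • y j := by
    intro x
    have e1 : ∀ z' : (LinearMap.ker g) ⊗[R] (Q →₀ R),
        ((finsuppScalarRight R R (LinearMap.ker g) Q z' x : LinearMap.ker g) : L) =
          finsuppScalarRight R R L Q ((LinearMap.ker g).subtype.rTensor (Q →₀ R) z') x := by
      intro z'
      induction z' with
      | zero => simp
      | tmul a b => simp
      | add a b ha hb => simp only [map_add, Finsupp.add_apply, Submodule.coe_add, ha, hb]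
    rw [hc, e1, ← hw]
    simp [map_sum, Finsupp.finsetSum_apply]
  let S : Finset Q := c.support ∪ Finset.univ.biUnion fun j => (r j : Q →₀ R).support
  let v : S → (Fin k → R) := fun x j => (r j : Q →₀ R) x
  let N : Submodule R (Fin k → R) := Submodule.span R (Set.range v)
  have hN : N.FG := Submodule.fg_span (Set.finite_range v)
  have hfp : Module.FinitePresentation R ((Fin k → R) ⧸ N) :=
    Module.finitePresentation_of_free_of_surjective N.mkQ N.mkQ_surjective (by rwa [Submodule.ker_mkQ])
  let φ : ((Fin k → R) ⧸ N) →ₗ[R] M := N.liftQ (Fintype.linearCombination R (fun j => g (y j))) (by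
    rw [Submodule.span_le]
    rintro _ ⟨x, rfl⟩
    have hx : g (c (x : Q) : L) = 0 := (c (x : Q)).2
    rw [hcoord, map_sum] at hx
    simpa [v, Fintype.linearCombination_apply, map_smul] using hx)
  obtain ⟨ψ, hψ⟩ := h _ hfp φ
  let y' : Fin k → L := fun j => ψ (N.mkQ (Pi.single j 1))
  have hy' : ∀ j, g (y' j) = g (y j) := by
    intro j
    have := LinearMap.congr_fun hψ (N.mkQ (Pi.single j 1))
    simpa [y', φ, Fintype.linearCombination_apply_single] using this
  let d : Fin k → LinearMap.ker g := fun j => ⟨y j - y' j, by simp [hy' j]⟩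
  have key : z' = ∑ j, d j ⊗ₜ (r j : Q →₀ R) := by
    apply (finsuppScalarRight R R (LinearMap.ker g) Q).injective
    ext x
    rw [← hc, hcoord]
    simp only [map_sum, Finsupp.finsetSum_apply, finsuppScalarRight_apply_tmul_apply,
      AddSubmonoidClass.coe_finsetSum, SetLike.val_smul, d, smul_sub, Finset.sum_sub_distrib]
    suffices ∑ j, (r j : Q →₀ R) x • y' j = 0 by rw [this, sub_zero]
    by_cases hx : x ∈ S
    · have hv : N.mkQ (v ⟨x, hx⟩) = 0 :=
        (Submodule.Quotient.mk_eq_zero N).2 (Submodule.subset_span ⟨_, rfl⟩)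
      have := congrArg ψ hv
      rw [map_zero, pi_eq_sum_univ' (v ⟨x, hx⟩)] at this
      simpa [map_sum, map_smul, y', v] using this
    · refine Finset.sum_eq_zero fun j _ => ?_
      have : (r j : Q →₀ R) x = 0 := by
        by_contra hne
        exact hx (Finset.mem_union_right _ (Finset.mem_biUnion.2
          ⟨j, Finset.mem_univ j, Finsupp.mem_support_iff.2 hne⟩))
      rw [this, zero_smul]
  rw [key, map_sum]
  refine Finset.sum_eq_zero fun j _ => ?_
  have : π (r j : Q →₀ R) = 0 := (r j).2
  simp [this]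

/-- maps from finitely presented modules lift along surjections with universally injective kernel -/
theorem pproj_of_fp (T : Type u) [AddCommGroup T] [Module R T] (hT : Module.FinitePresentation R T) :
    PProj R T := by
  classical
  intro L N _ _ _ _ g hg hker φ
  obtain ⟨n, m, p, A, hp, hA⟩ := Module.FinitePresentation.exists_fin' (R := R) (M := T)
  let e : Fin n → (Fin n → R) := fun j => Pi.single j 1
  choose y hy using fun j => hg (φ (p (e j)))
  let v : Fin m → (Fin n → R) := fun i => A (Pi.single i 1)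
  let a : Fin n → (Fin m → R) := fun j i => v i j
  let S : Submodule R (Fin m → R) := Submodule.span R (Set.range a)
  let q : Fin m → (Fin m → R) ⧸ S := fun i => S.mkQ (Pi.single i 1)
  have hv : ∀ i, p (v i) = 0 := fun i => (hA _).2 ⟨_, rfl⟩
  let k : Fin m → LinearMap.ker g := fun i => ⟨∑ j, v i j • y j, by
    rw [LinearMap.mem_ker, map_sum]
    simp only [map_smul, hy]
    have : φ (p (v i)) = 0 := by rw [hv, map_zero]
    rw [pi_eq_sum_univ' (v i)] at this
    simpa [map_sum, map_smul, e] using this⟩
  have hq : ∀ j, ∑ i, v i j • q i = 0 := by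
    intro j
    have h1 : S.mkQ (a j) = 0 := (Submodule.Quotient.mk_eq_zero S).2 (Submodule.subset_span ⟨j, rfl⟩)
    rw [pi_eq_sum_univ' (a j)] at h1
    simpa [map_sum, map_smul, q, a] using h1
  have hz : ∑ i, (k i) ⊗ₜ[R] q i = 0 := by
    apply hker ((Fin m → R) ⧸ S)
    simp only [map_sum, LinearMap.rTensor_tmul, map_zero, Submodule.subtype_apply, k]
    simp_rw [TensorProduct.sum_tmul, TensorProduct.smul_tmul]
    rw [Finset.sum_comm]
    simp_rw [← TensorProduct.tmul_sum, hq, TensorProduct.tmul_zero, Finset.sum_const_zero]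
  have hspan : Submodule.span R (Set.range q) = ⊤ := by
    rw [eq_top_iff]
    rintro x -
    obtain ⟨x, rfl⟩ := S.mkQ_surjective x
    rw [pi_eq_sum_univ' x, map_sum]
    refine Submodule.sum_mem _ fun i _ => ?_
    rw [map_smul]
    exact Submodule.smul_mem _ _ (Submodule.subset_span ⟨i, rfl⟩)
  have hz' : ∑ i, q i ⊗ₜ[R] k i = 0 := by
    simpa [map_sum] using congrArg (TensorProduct.comm R _ _) hz
  obtain ⟨l, b, w, hbw, hb⟩ := TensorProduct.vanishesTrivially_of_sum_tmul_eq_zero R hspan hz'
  have hmem : ∀ t, ∃ c : Fin n → R, ∑ j, c j • a j = fun i => b i t := by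
    intro t
    have h1 : S.mkQ (fun i => b i t) = 0 := by
      rw [pi_eq_sum_univ' (fun i => b i t), map_sum]
      simpa [map_smul, q] using hb t
    exact (Submodule.mem_span_range_iff_exists_fun R).1 ((Submodule.Quotient.mk_eq_zero S).1 h1)
  choose c hc using hmem
  let d : Fin n → LinearMap.ker g := fun j => ∑ t, c t j • w t
  have hd : ∀ i, k i = ∑ j, v i j • d j := by
    intro i
    simp only [d, Finset.smul_sum, smul_smul]
    rw [Finset.sum_comm, hbw i]
    refine Finset.sum_congr rfl fun t _ => ?_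
    rw [← Finset.sum_smul, ← congrFun (hc t) i, Finset.sum_apply]
    refine congrArg (· • w t) (Finset.sum_congr rfl fun j _ => ?_)
    simp [a, mul_comm]
  let F : (Fin n → R) →ₗ[R] L := Fintype.linearCombination R (fun j => y j - (d j : L))
  have hFv : ∀ i, F (v i) = 0 := by
    intro i
    simp only [F, Fintype.linearCombination_apply, smul_sub, Finset.sum_sub_distrib]
    rw [sub_eq_zero]
    simpa [k] using congrArg Subtype.val (hd i)
  have hker' : LinearMap.ker p ≤ LinearMap.ker F := by
    intro x hx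
    obtain ⟨x, rfl⟩ := (hA x).1 hx
    rw [LinearMap.mem_ker, pi_eq_sum_univ' x, map_sum, map_sum]
    exact Finset.sum_eq_zero fun i _ => by rw [map_smul, map_smul, hFv, smul_zero]
  refine ⟨((LinearMap.ker p).liftQ F hker') ∘ₗ (p.quotKerEquivOfSurjective hp).symm.toLinearMap, ?_⟩
  ext x
  obtain ⟨x, rfl⟩ := hp x
  have : (p.quotKerEquivOfSurjective hp).symm (p x) = Submodule.Quotient.mk x := by
    rw [LinearEquiv.symm_apply_eq]; rfl
  simp only [LinearMap.comp_apply, LinearEquiv.coe_coe, this, Submodule.liftQ_apply]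
  conv_rhs => rw [pi_eq_sum_univ' x]
  simp [F, Fintype.linearCombination_apply, map_sum, map_smul, hy, e]

theorem pproj_dfinsupp {ι : Type u} {Q : ι → Type u} [∀ i, AddCommGroup (Q i)] [∀ i, Module R (Q i)]
    (h : ∀ i, PProj R (Q i)) : PProj R (Π₀ i, Q i) := by
  classical
  intro L N _ _ _ _ g hg hker φ
  choose ψ hψ using fun i => h i g hg hker (φ ∘ₗ DFinsupp.lsingle i)
  refine ⟨DFinsupp.lsum ℕ ψ, DFinsupp.lhom_ext fun i x => ?_⟩
  simpa using LinearMap.congr_fun (hψ i) x

theorem pproj_of_retract {P F : Type u} [AddCommGroup P] [Module R P] [AddCommGroup F] [Module R F]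
    (s : P →ₗ[R] F) (r : F →ₗ[R] P) (h : r ∘ₗ s = LinearMap.id) (hF : PProj R F) : PProj R P := by
  intro L N _ _ _ _ g hg hker φ
  obtain ⟨ψ, hψ⟩ := hF g hg hker (φ ∘ₗ r)
  exact ⟨ψ ∘ₗ s, by rw [← LinearMap.comp_assoc, hψ, LinearMap.comp_assoc, h, LinearMap.comp_id]⟩

/-- a family through which all maps from finitely presented modules factor gives a pure cover -/
theorem cover_of_family {ι : Type u} {Q : ι → Type u} [∀ i, AddCommGroup (Q i)] [∀ i, Module R (Q i)]
    (p : ∀ i, Q i →ₗ[R] M) (h : ∀ (T : Type u) [AddCommGroup T] [Module R T],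
      Module.FinitePresentation R T → ∀ φ : T →ₗ[R] M, ∃ i, ∃ e : T →ₗ[R] Q i, p i ∘ₗ e = φ) :
    ∃ g : (Π₀ i, Q i) →ₗ[R] M, Function.Surjective g ∧
      UniversallyInjective R (LinearMap.ker g).subtype := by
  classical
  have hl : ∀ (T : Type u) [AddCommGroup T] [Module R T], Module.FinitePresentation R T →
      ∀ φ : T →ₗ[R] M, ∃ ψ : T →ₗ[R] (Π₀ i, Q i), DFinsupp.lsum ℕ p ∘ₗ ψ = φ := by
    intro T _ _ hT φ
    obtain ⟨i, e, rfl⟩ := h T hT φ
    exact ⟨DFinsupp.lsingle i ∘ₗ e, by ext x; simp⟩
  refine ⟨DFinsupp.lsum ℕ p, fun m => ?_, ui_ker_of_lift _ hl⟩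
  obtain ⟨ψ, hψ⟩ := hl R inferInstance (LinearMap.toSpanSingleton R M m)
  exact ⟨ψ 1, by simpa using LinearMap.congr_fun hψ 1⟩

variable (R M) in
/-- every module has a pure cover by a sum of finitely presented modules -/
theorem exists_cover : ∃ (ι : Type u) (Q : ι → Type u) (_ : ∀ i, AddCommGroup (Q i))
    (_ : ∀ i, Module R (Q i)), (∀ i, Module.FinitePresentation R (Q i)) ∧
      ∃ g : (Π₀ i, Q i) →ₗ[R] M, Function.Surjective g ∧
        UniversallyInjective R (LinearMap.ker g).subtype := by
  refine ⟨(Σ n : ℕ, Σ N : {N : Submodule R (Fin n → R) // N.FG}, ((Fin n → R) ⧸ N.1) →ₗ[R] M),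
    fun i => (Fin i.1 → R) ⧸ i.2.1.1, fun i => inferInstance, fun i => inferInstance,
    fun i => Module.finitePresentation_of_free_of_surjective i.2.1.1.mkQ (Submodule.mkQ_surjective _)
      (by rw [Submodule.ker_mkQ]; exact i.2.1.2), cover_of_family (fun i => i.2.2) ?_⟩
  intro T _ _ hT φ
  obtain ⟨n, N, e, hN⟩ := Module.FinitePresentation.exists_fin R T
  exact ⟨⟨n, ⟨N, hN⟩, φ ∘ₗ e.symm.toLinearMap⟩, e.toLinearMap, by ext x; simp⟩

theorem exists_summand {P : Type u} [AddCommGroup P] [Module R P] (hP : PProj R P) :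
    ∃ (ι : Type u) (Q : ι → Type u) (_ : ∀ i, AddCommGroup (Q i)) (_ : ∀ i, Module R (Q i)),
      (∀ i, Module.FinitePresentation R (Q i)) ∧
      ∃ (s : P →ₗ[R] (Π₀ i, Q i)) (r : (Π₀ i, Q i) →ₗ[R] P), r ∘ₗ s = LinearMap.id := by
  obtain ⟨ι, Q, i1, i2, hfp, g, hg, hker⟩ := exists_cover R P
  obtain ⟨s, hs⟩ := hP g hg hker LinearMap.id
  exact ⟨ι, Q, i1, i2, hfp, s, g, hs⟩

theorem range_ui {L M N : Type u} [AddCommGroup L] [Module R L] [AddCommGroup M] [Module R M]
    [AddCommGroup N] [Module R N] (f : L →ₗ[R] M) (g : M →ₗ[R] N)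
    (h : ∀ (Q : Type u) [AddCommGroup Q] [Module R Q], Function.Exact (f.rTensor Q) (g.rTensor Q)) :
    UniversallyInjective R (LinearMap.range g).subtype := by
  intro Q _ _
  refine (injective_iff_map_eq_zero _).2 fun z hz => ?_
  obtain ⟨w, rfl⟩ := LinearMap.rTensor_surjective Q (LinearMap.surjective_rangeRestrict g) z
  have hw : g.rTensor Q w = 0 := by
    rw [← hz, ← LinearMap.comp_apply, ← LinearMap.rTensor_comp]
    rfl
  obtain ⟨x, rfl⟩ := (h Q w).1 hw
  have hgf : g ∘ₗ f = 0 := by
    ext l
    have h0 := (h R (f.rTensor R (l ⊗ₜ 1))).2 ⟨_, rfl⟩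
    simpa using congrArg (TensorProduct.rid R N) h0
  have : g.rangeRestrict ∘ₗ f = 0 := by
    ext l
    simpa using LinearMap.congr_fun hgf l
  rw [← LinearMap.comp_apply, ← LinearMap.rTensor_comp, this]
  simp

end Groth.Agent.PureExtLib
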