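import Mathlib
import Groth.Agent.PureExtLib.Basic

/-! Universally exact complexes, pure resolutions. -/

universe u

open CategoryTheory Limits HomologicalComplex

namespace Groth.Agent.PureExtLib

open CAlgX

variable {R : Type u} [CommRing R]

/-- exact after tensoring with any module -/
def UEx {A B C : Type u} [AddCommGroup A] [Module R A] [AddCommGroup B] [Module R B]
    [AddCommGroup C] [Module R C] (f : A →ₗ[R] B) (g : B →ₗ[R] C) : Prop :=
  ∀ (Q : Type u) [AddCommGroup Q] [Module R Q], Function.Exact (f.rTensor Q) (g.rTensor Q)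

theorem exact_of_uex {A B C : Type u} [AddCommGroup A] [Module R A] [AddCommGroup B] [Module R B]
    [AddCommGroup C] [Module R C] {f : A →ₗ[R] B} {g : B →ₗ[R] C} (h : UEx f g) :
    Function.Exact f g := by
  intro b
  have e := h R (b ⊗ₜ 1)
  constructor
  · intro hb
    obtain ⟨x, hx⟩ := e.1 (by simp [hb])
    refine ⟨TensorProduct.rid R A x, ?_⟩
    have key : ∀ x, f (TensorProduct.rid R A x) = TensorProduct.rid R B (f.rTensor R x) := by
      intro x
      induction x with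
      | zero => simp
      | tmul a r => simp
      | add a b ha hb => simp only [map_add, ha, hb]
    rw [key, hx]; simp
  · rintro ⟨a, rfl⟩
    simpa using congrArg (TensorProduct.rid R C) (e.2 ⟨a ⊗ₜ 1, by simp⟩)

theorem surjective_of_rTensor {A B : Type u} [AddCommGroup A] [Module R A] [AddCommGroup B]
    [Module R B] (f : A →ₗ[R] B) (h : Function.Surjective (f.rTensor R)) : Function.Surjective f := by
  intro m
  obtain ⟨x, hx⟩ := h (m ⊗ₜ (1 : R))
  refine ⟨TensorProduct.rid R A x, ?_⟩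
  have key : ∀ x, f (TensorProduct.rid R A x) = TensorProduct.rid R B (f.rTensor R x) := by
    intro x
    induction x with
    | zero => simp
    | tmul a r => simp
    | add a b ha hb => simp only [map_add, ha, hb]
  rw [key, hx]; simp

theorem pproj_lift {A B C P : Type u} [AddCommGroup A] [Module R A] [AddCommGroup B] [Module R B]
    [AddCommGroup C] [Module R C] [AddCommGroup P] [Module R P] {f : A →ₗ[R] B} {g : B →ₗ[R] C}
    (hfg : Function.Exact f g) (hker : UniversallyInjective R (LinearMap.ker f).subtype)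
    (hP : PProj R P) (φ : P →ₗ[R] B) (h : g ∘ₗ φ = 0) : ∃ ψ : P →ₗ[R] A, f ∘ₗ ψ = φ := by
  have hk : ∀ x, φ x ∈ LinearMap.range f := fun x => (hfg _).1 (LinearMap.congr_fun h x)
  have hker' : UniversallyInjective R (LinearMap.ker f.rangeRestrict).subtype := by
    rw [LinearMap.ker_rangeRestrict]; exact hker
  obtain ⟨ψ, hψ⟩ := hP f.rangeRestrict (LinearMap.surjective_rangeRestrict f) hker'
    (LinearMap.codRestrict _ φ hk)
  refine ⟨ψ, ?_⟩
  ext x
  simpa using congrArg Subtype.val (LinearMap.congr_fun hψ x)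

theorem pinj_extend {A B C I : Type u} [AddCommGroup A] [Module R A] [AddCommGroup B] [Module R B]
    [AddCommGroup C] [Module R C] [AddCommGroup I] [Module R I] {f : A →ₗ[R] B} {g : B →ₗ[R] C}
    (hfg : UEx f g) (hI : PInj R I) (φ : B →ₗ[R] I) (h : φ ∘ₗ f = 0) :
    ∃ ψ : C →ₗ[R] I, ψ ∘ₗ g = φ := by
  have hle : LinearMap.ker g ≤ LinearMap.ker φ := by
    intro b hb
    obtain ⟨a, rfl⟩ := (exact_of_uex hfg b).1 hb
    exact LinearMap.congr_fun h a
  obtain ⟨ψ, hψ⟩ := hI (LinearMap.range g).subtype (range_ui f g hfg)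
    (((LinearMap.ker g).liftQ φ hle) ∘ₗ g.quotKerEquivRange.symm.toLinearMap)
  refine ⟨ψ, ?_⟩
  ext b
  have e := LinearMap.congr_fun hψ ⟨g b, b, rfl⟩
  have : g.quotKerEquivRange.symm ⟨g b, b, rfl⟩ = Submodule.Quotient.mk b := by
    rw [LinearEquiv.symm_apply_eq]; rfl
  simpa [this] using e

/-- tensoring on the right -/
noncomputable abbrev tR (T : ModuleCat.{u} R) : ModuleCat.{u} R ⥤ ModuleCat.{u} R :=
  MonoidalCategory.tensorRight T

theorem tR_map_hom {A B : ModuleCat.{u} R} (f : A ⟶ B) (T : ModuleCat.{u} R) :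
    ((tR T).map f).hom = f.hom.rTensor T := rfl

theorem tR_map_zero (T A B : ModuleCat.{u} R) : (tR T).map (0 : A ⟶ B) = 0 := by
  apply ModuleCat.hom_ext
  exact LinearMap.rTensor_zero _

theorem map_d_zero (T : ModuleCat.{u} R) {c : ComplexShape ℕ} (K : HomologicalComplex (ModuleCat.{u} R) c)
    (i j : ℕ) (h : K.d i j = 0) : (((tR T).mapHomologicalComplex c).obj K).d i j = 0 := by
  rw [Functor.mapHomologicalComplex_obj_d, h]
  exact tR_map_zero _ _ _

theorem uex_iff {A B C : ModuleCat.{u} R} (f : A ⟶ B) (g : B ⟶ C) :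
    UEx f.hom g.hom ↔
      ∀ T : ModuleCat.{u} R, Function.Exact ((tR T).map f).hom ((tR T).map g).hom :=
  ⟨fun h T => h T, fun h Q _ _ => h (ModuleCat.of R Q)⟩

/-- data of a universally exact augmentation of a chain complex -/
structure URes {M : ModuleCat.{u} R} (P : ChainComplex (ModuleCat.{u} R) ℕ)
    (π : P ⟶ (ChainComplex.single₀ (ModuleCat.{u} R)).obj M) : Prop where
  surj : Function.Surjective (π.f 0).hom
  ex0 : UEx (P.d 1 0).hom (π.f 0).hom
  ex : ∀ n, UEx (P.d (n + 2) (n + 1)).hom (P.d (n + 1) n).hom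

theorem URes.quasiIso {M : ModuleCat.{u} R} {P : ChainComplex (ModuleCat.{u} R) ℕ}
    {π : P ⟶ (ChainComplex.single₀ (ModuleCat.{u} R)).obj M} (h : URes P π) (T : ModuleCat.{u} R) :
    QuasiIso (((tR T).mapHomologicalComplex (ComplexShape.down ℕ)).map π) := by
  refine ⟨fun n => ?_⟩
  cases n with
  | zero =>
    rw [ChainComplex.quasiIsoAt₀_iff, ShortComplex.quasiIso_iff_of_zeros']
    · refine ⟨?_, ?_⟩
      · rw [ShortComplex.moduleCat_exact_iff]
        intro x hx
        exact ((uex_iff _ _).1 h.ex0 T _).1 hx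
      · rw [ModuleCat.epi_iff_surjective]
        exact LinearMap.rTensor_surjective T h.surj
    all_goals exact map_d_zero T _ _ _ (by first | exact single_obj_d _ _ _ _ _ | exact HomologicalComplex.shape _ _ _ (by simp))
  | succ n =>
    rw [quasiIsoAt_iff_exactAt']
    · rw [exactAt_iff' _ (n + 2) (n + 1) n (by simp) (by simp), ShortComplex.moduleCat_exact_iff]
      intro x hx
      exact ((uex_iff _ _).1 (h.ex n) T _).1 hx
    · exact ShortComplex.exact_of_isZero_X₂ _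
        ((tR T).map_isZero (isZero_single_obj_X _ _ _ _ (by omega)))

theorem URes.of_quasiIso {M : ModuleCat.{u} R} {P : ChainComplex (ModuleCat.{u} R) ℕ}
    {π : P ⟶ (ChainComplex.single₀ (ModuleCat.{u} R)).obj M}
    (h : ∀ T : ModuleCat.{u} R,
      QuasiIso (((MonoidalCategory.tensorRight T).mapHomologicalComplex (ComplexShape.down ℕ)).map π)) :
    URes P π := by
  have h0 : ∀ T : ModuleCat.{u} R, Function.Exact ((tR T).map (P.d 1 0)).hom ((tR T).map (π.f 0)).hom ∧
      Function.Surjective ((tR T).map (π.f 0)).hom := by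
    intro T
    have e := (h T).quasiIsoAt 0
    rw [ChainComplex.quasiIsoAt₀_iff, ShortComplex.quasiIso_iff_of_zeros'] at e
    · refine ⟨?_, ?_⟩
      · have e1 := e.1
        rw [ShortComplex.ShortExact.moduleCat_exact_iff_function_exact] at e1
        exact e1
      · have e2 := e.2
        rw [ModuleCat.epi_iff_surjective] at e2
        exact e2
    all_goals exact map_d_zero T _ _ _ (by first | exact single_obj_d _ _ _ _ _ | exact HomologicalComplex.shape _ _ _ (by simp))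
  refine ⟨?_, (uex_iff _ _).2 fun T => (h0 T).1, fun n => (uex_iff _ _).2 fun T => ?_⟩
  · exact surjective_of_rTensor _ (h0 (ModuleCat.of R R)).2
  · have e := (h T).quasiIsoAt (n + 1)
    rw [quasiIsoAt_iff_exactAt'] at e
    · rw [exactAt_iff' _ (n + 2) (n + 1) n (by simp) (by simp),
        ShortComplex.ShortExact.moduleCat_exact_iff_function_exact] at e
      exact e
    · exact ShortComplex.exact_of_isZero_X₂ _
        ((tR T).map_isZero (isZero_single_obj_X _ _ _ _ (by omega)))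

theorem URes.ker_ui {M : ModuleCat.{u} R} {P : ChainComplex (ModuleCat.{u} R) ℕ}
    {π : P ⟶ (ChainComplex.single₀ (ModuleCat.{u} R)).obj M} (h : URes P π) :
    UniversallyInjective R (LinearMap.ker (π.f 0).hom).subtype ∧
      ∀ n, UniversallyInjective R (LinearMap.ker (P.d (n + 1) n).hom).subtype := by
  refine ⟨?_, fun n => ?_⟩
  · rw [(exact_of_uex h.ex0).linearMap_ker_eq]
    exact range_ui _ _ (h.ex 0)
  · rw [(exact_of_uex (h.ex n)).linearMap_ker_eq]
    exact range_ui _ _ (h.ex (n + 1))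

section lifting

variable {M N : ModuleCat.{u} R} (P N' : ChainComplex (ModuleCat.{u} R) ℕ)
    (ε : N' ⟶ (ChainComplex.single₀ (ModuleCat.{u} R)).obj N) (hε : URes N' ε)
    (hP : ∀ n, PProj R (P.X n))

include hε hP

theorem lift0 (m : ℕ) (φ : P.X m ⟶ ((ChainComplex.single₀ (ModuleCat.{u} R)).obj N).X 0) :
    ∃ ψ : P.X m ⟶ N'.X 0, ψ ≫ ε.f 0 = φ := by
  obtain ⟨ψ, hψ⟩ := hP m (ε.f 0).hom hε.surj hε.ker_ui.1 φ.hom
  exact ⟨ModuleCat.ofHom ψ, ModuleCat.hom_ext hψ⟩

theorem lift1 (m : ℕ) (φ : P.X m ⟶ N'.X 0) (h : φ ≫ ε.f 0 = 0) :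
    ∃ ψ : P.X m ⟶ N'.X 1, ψ ≫ N'.d 1 0 = φ := by
  obtain ⟨ψ, hψ⟩ := pproj_lift (exact_of_uex hε.ex0) (hε.ker_ui.2 0) (hP m) φ.hom
    (congrArg ModuleCat.Hom.hom h)
  exact ⟨ModuleCat.ofHom ψ, ModuleCat.hom_ext hψ⟩

theorem liftSucc (n m : ℕ) (φ : P.X m ⟶ N'.X (n + 1)) (h : φ ≫ N'.d (n + 1) n = 0) :
    ∃ ψ : P.X m ⟶ N'.X (n + 2), ψ ≫ N'.d (n + 2) (n + 1) = φ := by
  obtain ⟨ψ, hψ⟩ := pproj_lift (exact_of_uex (hε.ex n)) (hε.ker_ui.2 (n + 1)) (hP m) φ.hom
    (congrArg ModuleCat.Hom.hom h)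
  exact ⟨ModuleCat.ofHom ψ, ModuleCat.hom_ext hψ⟩

theorem exists_map (π : P ⟶ (ChainComplex.single₀ (ModuleCat.{u} R)).obj N) :
    ∃ φ : P ⟶ N', φ ≫ ε = π := by
  classical
  obtain ⟨z, hz⟩ := lift0 P N' ε hε hP 0 (π.f 0)
  obtain ⟨o, ho⟩ := lift1 P N' ε hε hP 1 (P.d 1 0 ≫ z)
    (by rw [Category.assoc, hz, ← π.comm, single_obj_d, comp_zero])
  refine ⟨ChainComplex.mkHom P N' z o ho fun n p => ?_, ?_⟩
  · have hc : (P.d (n + 2) (n + 1) ≫ p.2.1) ≫ N'.d (n + 1) n = 0 := by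
      rw [Category.assoc, p.2.2, ← Category.assoc, P.d_comp_d, zero_comp]
    exact ⟨Classical.choose (liftSucc P N' ε hε hP n (n + 2) _ hc),
      Classical.choose_spec (liftSucc P N' ε hε hP n (n + 2) _ hc)⟩
  · apply to_single_hom_ext
    rw [comp_f, ChainComplex.mkHom_f_0]
    exact hz

theorem homotopy (e : P ⟶ N') (he : e ≫ ε = 0) : Nonempty (Homotopy e 0) := by
  classical
  have h0 : e.f 0 ≫ ε.f 0 = 0 := by rw [← comp_f, he, zero_f]
  obtain ⟨z, hz⟩ := lift1 P N' ε hε hP 0 (e.f 0) h0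
  obtain ⟨o, ho⟩ := liftSucc P N' ε hε hP 0 1 (e.f 1 - P.d 1 0 ≫ z)
    (by rw [Preadditive.sub_comp, Category.assoc, hz, e.comm, sub_self])
  refine ⟨Homotopy.mkInductive e z hz.symm o (by rw [ho]; abel) fun n p => ?_⟩
  have hc : (e.f (n + 2) - P.d (n + 2) (n + 1) ≫ p.2.1) ≫ N'.d (n + 2) (n + 1) = 0 := by
    have h1 := p.2.2
    have h2 : p.2.1 ≫ N'.d (n + 2) (n + 1) = e.f (n + 1) - P.d (n + 1) n ≫ p.1 := by
      exact eq_sub_of_add_eq' h1.symm
    rw [Preadditive.sub_comp, Category.assoc, h2, Preadditive.comp_sub, e.comm, P.d_comp_d_assoc,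
      zero_comp, sub_zero, sub_self]
  exact ⟨Classical.choose (liftSucc P N' ε hε hP (n + 1) (n + 2) _ hc), by
    rw [Classical.choose_spec (liftSucc P N' ε hε hP (n + 1) (n + 2) _ hc)]; abel⟩

end lifting

/-- data of a universally exact coaugmentation of a cochain complex -/
structure UCores {M : ModuleCat.{u} R} (I : CochainComplex (ModuleCat.{u} R) ℕ)
    (η : (CochainComplex.single₀ (ModuleCat.{u} R)).obj M ⟶ I) : Prop where
  inj : UniversallyInjective R (η.f 0).hom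
  ex0 : UEx (η.f 0).hom (I.d 0 1).hom
  ex : ∀ n, UEx (I.d n (n + 1)).hom (I.d (n + 1) (n + 2)).hom

theorem UCores.quasiIso {M : ModuleCat.{u} R} {I : CochainComplex (ModuleCat.{u} R) ℕ}
    {η : (CochainComplex.single₀ (ModuleCat.{u} R)).obj M ⟶ I} (h : UCores I η) (T : ModuleCat.{u} R) :
    QuasiIso (((tR T).mapHomologicalComplex (ComplexShape.up ℕ)).map η) := by
  refine ⟨fun n => ?_⟩
  cases n with
  | zero =>
    rw [CochainComplex.quasiIsoAt₀_iff, ShortComplex.quasiIso_iff_of_zeros]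
    · refine ⟨?_, ?_⟩
      · rw [ShortComplex.moduleCat_exact_iff]
        intro x hx
        exact ((uex_iff _ _).1 h.ex0 T _).1 hx
      · rw [ModuleCat.mono_iff_injective]
        exact h.inj T
    all_goals exact map_d_zero T _ _ _ (by first | exact single_obj_d _ _ _ _ _ | exact HomologicalComplex.shape _ _ _ (by simp))
  | succ n =>
    rw [quasiIsoAt_iff_exactAt]
    · rw [exactAt_iff' _ n (n + 1) (n + 2) (by simp) (by simp), ShortComplex.moduleCat_exact_iff]
      intro x hx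
      exact ((uex_iff _ _).1 (h.ex n) T _).1 hx
    · exact ShortComplex.exact_of_isZero_X₂ _
        ((tR T).map_isZero (isZero_single_obj_X _ _ _ _ (by omega)))

theorem UCores.of_quasiIso {M : ModuleCat.{u} R} {I : CochainComplex (ModuleCat.{u} R) ℕ}
    {η : (CochainComplex.single₀ (ModuleCat.{u} R)).obj M ⟶ I}
    (h : ∀ T : ModuleCat.{u} R,
      QuasiIso (((MonoidalCategory.tensorRight T).mapHomologicalComplex (ComplexShape.up ℕ)).map η)) :
    UCores I η := by
  have h0 : ∀ T : ModuleCat.{u} R, Function.Exact ((tR T).map (η.f 0)).hom ((tR T).map (I.d 0 1)).hom ∧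
      Function.Injective ((tR T).map (η.f 0)).hom := by
    intro T
    have e := (h T).quasiIsoAt 0
    rw [CochainComplex.quasiIsoAt₀_iff, ShortComplex.quasiIso_iff_of_zeros] at e
    · refine ⟨?_, ?_⟩
      · have e1 := e.1
        rw [ShortComplex.ShortExact.moduleCat_exact_iff_function_exact] at e1
        exact e1
      · have e2 := e.2
        rw [ModuleCat.mono_iff_injective] at e2
        exact e2
    all_goals exact map_d_zero T _ _ _ (by first | exact single_obj_d _ _ _ _ _ | exact HomologicalComplex.shape _ _ _ (by simp))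
  refine ⟨fun Q _ _ => (h0 (ModuleCat.of R Q)).2, (uex_iff _ _).2 fun T => (h0 T).1,
    fun n => (uex_iff _ _).2 fun T => ?_⟩
  have e := (h T).quasiIsoAt (n + 1)
  rw [quasiIsoAt_iff_exactAt] at e
  · rw [exactAt_iff' _ n (n + 1) (n + 2) (by simp) (by simp),
      ShortComplex.ShortExact.moduleCat_exact_iff_function_exact] at e
    exact e
  · exact ShortComplex.exact_of_isZero_X₂ _
      ((tR T).map_isZero (isZero_single_obj_X _ _ _ _ (by omega)))

section extending

variable {M : ModuleCat.{u} R} (M' I : CochainComplex (ModuleCat.{u} R) ℕ)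
    (η : (CochainComplex.single₀ (ModuleCat.{u} R)).obj M ⟶ M') (hη : UCores M' η)
    (hI : ∀ n, PInj R (I.X n))

include hη hI

theorem ext0 (m : ℕ) (φ : ((CochainComplex.single₀ (ModuleCat.{u} R)).obj M).X 0 ⟶ I.X m) :
    ∃ ψ : M'.X 0 ⟶ I.X m, η.f 0 ≫ ψ = φ := by
  obtain ⟨ψ, hψ⟩ := hI m (η.f 0).hom hη.inj φ.hom
  exact ⟨ModuleCat.ofHom ψ, ModuleCat.hom_ext hψ⟩

theorem ext1 (m : ℕ) (φ : M'.X 0 ⟶ I.X m) (h : η.f 0 ≫ φ = 0) :
    ∃ ψ : M'.X 1 ⟶ I.X m, M'.d 0 1 ≫ ψ = φ := by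
  obtain ⟨ψ, hψ⟩ := pinj_extend hη.ex0 (hI m) φ.hom (congrArg ModuleCat.Hom.hom h)
  exact ⟨ModuleCat.ofHom ψ, ModuleCat.hom_ext hψ⟩

theorem extSucc (n m : ℕ) (φ : M'.X (n + 1) ⟶ I.X m) (h : M'.d n (n + 1) ≫ φ = 0) :
    ∃ ψ : M'.X (n + 2) ⟶ I.X m, M'.d (n + 1) (n + 2) ≫ ψ = φ := by
  obtain ⟨ψ, hψ⟩ := pinj_extend (hη.ex n) (hI m) φ.hom (congrArg ModuleCat.Hom.hom h)
  exact ⟨ModuleCat.ofHom ψ, ModuleCat.hom_ext hψ⟩

theorem exists_comap (ε : (CochainComplex.single₀ (ModuleCat.{u} R)).obj M ⟶ I) :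
    ∃ φ : M' ⟶ I, η ≫ φ = ε := by
  classical
  obtain ⟨z, hz⟩ := ext0 M' I η hη hI 0 (ε.f 0)
  obtain ⟨o, ho⟩ := ext1 M' I η hη hI 1 (z ≫ I.d 0 1)
    (by rw [reassoc_of% hz, ε.comm, single_obj_d, zero_comp])
  refine ⟨CochainComplex.mkHom M' I z o ho.symm fun n p => ?_, ?_⟩
  · have hc : M'.d n (n + 1) ≫ (p.2.1 ≫ I.d (n + 1) (n + 2)) = 0 := by
      rw [← Category.assoc, ← p.2.2, Category.assoc, I.d_comp_d, comp_zero]
    exact ⟨Classical.choose (extSucc M' I η hη hI n (n + 2) _ hc),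
      (Classical.choose_spec (extSucc M' I η hη hI n (n + 2) _ hc)).symm⟩
  · apply from_single_hom_ext
    rw [comp_f, CochainComplex.mkHom_f_0]
    exact hz

theorem cohomotopy (e : M' ⟶ I) (he : η ≫ e = 0) : Nonempty (Homotopy e 0) := by
  classical
  have h0 : η.f 0 ≫ e.f 0 = 0 := by rw [← comp_f, he, zero_f]
  obtain ⟨z, hz⟩ := ext1 M' I η hη hI 0 (e.f 0) h0
  obtain ⟨o, ho⟩ := extSucc M' I η hη hI 0 1 (e.f 1 - z ≫ I.d 0 1)
    (by rw [Preadditive.comp_sub, reassoc_of% hz, ← e.comm, sub_self])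
  refine ⟨Homotopy.mkCoinductive e z hz.symm o (by rw [ho]; abel) fun n p => ?_⟩
  have hc : M'.d (n + 1) (n + 2) ≫ (e.f (n + 2) - p.2.1 ≫ I.d (n + 1) (n + 2)) = 0 := by
    have h1 := p.2.2
    have h2 : M'.d (n + 1) (n + 2) ≫ p.2.1 = e.f (n + 1) - p.1 ≫ I.d n (n + 1) := by
      exact eq_sub_of_add_eq' h1.symm
    rw [Preadditive.comp_sub, ← Category.assoc, h2, Preadditive.sub_comp, ← e.comm,
      Category.assoc, I.d_comp_d, comp_zero, sub_zero, sub_self]
  exact ⟨Classical.choose (extSucc M' I η hη hI (n + 1) (n + 2) _ hc), by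
    rw [Classical.choose_spec (extSucc M' I η hη hI (n + 1) (n + 2) _ hc)]; abel⟩

end extending

end Groth.Agent.PureExtLib
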