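import Mathlib
import Groth.Agent.PureExtLib.Complexes

/-! Existence of pure projective and pure injective resolutions. -/

universe u

open CategoryTheory Limits HomologicalComplex TensorProduct

namespace Groth.Agent.PureExtLib

open CAlgX

variable {R : Type u} [CommRing R]

/-- being a sum of finitely presented modules, up to retract -/
def Summand (P : Type u) [AddCommGroup P] [Module R P] : Prop :=
  ∃ (ι : Type u) (Q : ι → Type u) (_ : ∀ i, AddCommGroup (Q i)) (_ : ∀ i, Module R (Q i)),
    (∀ i, Module.FinitePresentation R (Q i)) ∧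
    ∃ (s : P →ₗ[R] (Π₀ i, Q i)) (r : (Π₀ i, Q i) →ₗ[R] P), r ∘ₗ s = LinearMap.id

theorem exists_cover_obj (M : Type u) [AddCommGroup M] [Module R M] :
    ∃ (C : ModuleCat.{u} R) (g : C →ₗ[R] M), Summand (R := R) C ∧ Function.Surjective g ∧
      UniversallyInjective R (LinearMap.ker g).subtype := by
  obtain ⟨ι, Q, i1, i2, hfp, g, hg, hker⟩ := exists_cover R M
  exact ⟨ModuleCat.of R (Π₀ i, Q i), g,
    ⟨ι, Q, i1, i2, hfp, LinearMap.id, LinearMap.id, LinearMap.comp_id _⟩, hg, hker⟩

/-- a stage of the construction -/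
structure St (R : Type u) [CommRing R] where
  /-- source -/
  A : ModuleCat.{u} R
  /-- target -/
  B : ModuleCat.{u} R
  /-- the map -/
  d : A ⟶ B

/-- the next stage -/
noncomputable def St.next (S : St R) : St R :=
  ⟨Classical.choose (exists_cover_obj (R := R) (LinearMap.ker S.d.hom)), S.A,
    ModuleCat.ofHom ((LinearMap.ker S.d.hom).subtype.comp
      (Classical.choose (Classical.choose_spec (exists_cover_obj (R := R) (LinearMap.ker S.d.hom)))))⟩

/-- the initial stage -/
noncomputable def St.zero (M : ModuleCat.{u} R) : St R :=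
  ⟨Classical.choose (exists_cover_obj (R := R) M), M,
    ModuleCat.ofHom (Classical.choose (Classical.choose_spec (exists_cover_obj (R := R) M)))⟩

/-- all stages -/
noncomputable def St.iter (M : ModuleCat.{u} R) : ℕ → St R
  | 0 => St.zero M
  | n + 1 => (St.iter M n).next

theorem ker_ui_comp {A B : Type u} [AddCommGroup A] [Module R A] [AddCommGroup B] [Module R B]
    (p : Submodule R B) (g : A →ₗ[R] p) (h : UniversallyInjective R (LinearMap.ker g).subtype) :
    UniversallyInjective R (LinearMap.ker (p.subtype.comp g)).subtype := by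
  have : LinearMap.ker (p.subtype.comp g) = LinearMap.ker g := by ext; simp
  rw [this]; exact h

theorem St.next_spec (S : St R) :
    Summand (R := R) S.next.A ∧ LinearMap.range S.next.d.hom = LinearMap.ker S.d.hom ∧
      UniversallyInjective R (LinearMap.ker S.next.d.hom).subtype := by
  obtain ⟨h1, h2, h3⟩ :=
    Classical.choose_spec (Classical.choose_spec (exists_cover_obj (R := R) (LinearMap.ker S.d.hom)))
  refine ⟨h1, ?_, ?_⟩
  · apply le_antisymm
    · rintro _ ⟨x, rfl⟩; exact Subtype.mem _
    · intro y hy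
      obtain ⟨x, hx⟩ := h2 ⟨y, hy⟩
      exact ⟨x, congrArg Subtype.val hx⟩
  · exact ker_ui_comp _ _ h3

theorem uex_of {A B C : Type u} [AddCommGroup A] [Module R A] [AddCommGroup B] [Module R B]
    [AddCommGroup C] [Module R C] {f : A →ₗ[R] B} {g : B →ₗ[R] C} (hfg : Function.Exact f g)
    (hg : UniversallyInjective R (LinearMap.range g).subtype) : UEx f g := by
  intro Q _ _
  have h1 : Function.Exact f g.rangeRestrict := by
    intro b
    rw [← hfg b]
    exact ⟨fun h => congrArg Subtype.val h, fun h => Subtype.ext h⟩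
  have h2 := rTensor_exact Q h1 (LinearMap.surjective_rangeRestrict g)
  intro x
  rw [← h2 x]
  have : g.rTensor Q x = (LinearMap.range g).subtype.rTensor Q (g.rangeRestrict.rTensor Q x) := by
    rw [← LinearMap.comp_apply, ← LinearMap.rTensor_comp]; rfl
  rw [this]
  exact ⟨fun h => hg Q (by rw [h, map_zero]), fun h => by rw [h, map_zero]⟩

theorem range_ui_of_surjective {A B : Type u} [AddCommGroup A] [Module R A] [AddCommGroup B]
    [Module R B] (f : A →ₗ[R] B) (hf : Function.Surjective f) :
    UniversallyInjective R (LinearMap.range f).subtype := by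
  intro Q _ _
  exact (LinearEquiv.rTensor Q (LinearEquiv.ofBijective (LinearMap.range f).subtype
    ⟨Subtype.val_injective, fun b => ⟨⟨b, hf b⟩, rfl⟩⟩)).injective

theorem exists_resolution (M : ModuleCat.{u} R) :
    ∃ (P : ChainComplex (ModuleCat.{u} R) ℕ) (π : P ⟶ (ChainComplex.single₀ (ModuleCat.{u} R)).obj M),
      (∀ n, Summand (R := R) (P.X n)) ∧ URes P π := by
  obtain ⟨hs0, hsurj, hk0⟩ :=
    Classical.choose_spec (Classical.choose_spec (exists_cover_obj (R := R) M))
  have hex : ∀ n, Function.Exact (St.iter M (n + 1)).d.hom (St.iter M n).d.hom := fun n =>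
    LinearMap.exact_iff.2 (St.next_spec (St.iter M n)).2.1.symm
  have hk : ∀ n, UniversallyInjective R (LinearMap.ker (St.iter M n).d.hom).subtype := by
    intro n
    cases n with
    | zero => exact hk0
    | succ n => exact (St.next_spec (St.iter M n)).2.2
  have hr : ∀ n, UniversallyInjective R (LinearMap.range (St.iter M n).d.hom).subtype := by
    intro n
    cases n with
    | zero => exact range_ui_of_surjective _ hsurj
    | succ n =>
      show UniversallyInjective R (LinearMap.range (St.iter M n).next.d.hom).subtype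
      rw [(St.next_spec (St.iter M n)).2.1]
      exact hk n
  let P : ChainComplex (ModuleCat.{u} R) ℕ := ChainComplex.of (fun n => (St.iter M n).A)
    (fun n => (St.iter M (n + 1)).d)
    (fun n => ModuleCat.hom_ext (hex (n + 1)).linearMap_comp_eq_zero)
  have hd : ∀ n, P.d (n + 1) n = (St.iter M (n + 1)).d := fun n => by dsimp [P]; exact ChainComplex.of_d _ _ n
  have hc0 : P.d 1 0 ≫ (St.iter M 0).d = 0 := by
    rw [hd 0]; exact ModuleCat.hom_ext (hex 0).linearMap_comp_eq_zero
  obtain ⟨π, hπ⟩ : ∃ π : P ⟶ (ChainComplex.single₀ (ModuleCat.{u} R)).obj M,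
      π.f 0 = (St.iter M 0).d :=
    ⟨_, ChainComplex.toSingle₀Equiv_symm_apply_f_zero (C := P) (X := M) (St.iter M 0).d hc0⟩
  refine ⟨P, π, fun n => ?_, ⟨?_, ?_, ?_⟩⟩
  · cases n with
    | zero => exact hs0
    | succ n => exact (St.next_spec (St.iter M n)).1
  · rw [hπ]
    exact hsurj
  · rw [hπ, hd 0]
    exact uex_of (hex 0) (hr 0)
  · intro n
    rw [hd (n + 1), hd n]
    exact uex_of (hex (n + 1)) (hr (n + 1))

/-- the next costage -/
noncomputable def St.conext (S : St R) : St R :=
  ⟨S.B, ModuleCat.of R (CharacterModule (CharacterModule ((S.B : Type u) ⧸ LinearMap.range S.d.hom))),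
    ModuleCat.ofHom ((PureExt.charEval R _).comp (LinearMap.range S.d.hom).mkQ)⟩

/-- all costages -/
noncomputable def St.coiter (M : ModuleCat.{u} R) : ℕ → St R
  | 0 => ⟨M, ModuleCat.of R (CharacterModule (CharacterModule M)), ModuleCat.ofHom (PureExt.charEval R M)⟩
  | n + 1 => (St.coiter M n).conext

theorem St.conext_uex (S : St R) : UEx S.d.hom S.conext.d.hom := by
  intro Q _ _
  have h1 : Function.Exact S.d.hom (LinearMap.range S.d.hom).mkQ := LinearMap.exact_map_mkQ_range _
  have h2 := rTensor_exact Q h1 (Submodule.mkQ_surjective _)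
  intro x
  rw [← h2 x]
  have : S.conext.d.hom.rTensor Q x = (PureExt.charEval R _).rTensor Q
      ((LinearMap.range S.d.hom).mkQ.rTensor Q x) := by
    rw [← LinearMap.comp_apply, ← LinearMap.rTensor_comp]; rfl
  refine (iff_of_eq (congrArg (· = 0) this)).trans ⟨fun h => ui_charEval _ Q (h.trans (map_zero _).symm), ?_⟩
  exact fun h => (congrArg _ h).trans (map_zero _)

theorem exists_coresolution (M : ModuleCat.{u} R) :
    ∃ (I : CochainComplex (ModuleCat.{u} R) ℕ) (η : (CochainComplex.single₀ (ModuleCat.{u} R)).obj M ⟶ I),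
      (∀ n, PInj R (I.X n)) ∧ UCores I η := by
  have hex : ∀ n, UEx (St.coiter M n).d.hom (St.coiter M (n + 1)).d.hom := fun n => St.conext_uex _
  let I : CochainComplex (ModuleCat.{u} R) ℕ := CochainComplex.of (fun n => (St.coiter M n).B)
    (fun n => (St.coiter M (n + 1)).d)
    (fun n => ModuleCat.hom_ext (exact_of_uex (hex (n + 1))).linearMap_comp_eq_zero)
  have hd : ∀ n, I.d n (n + 1) = (St.coiter M (n + 1)).d := fun n => by dsimp [I]; exact CochainComplex.of_d _ _ n
  have hc0 : (St.coiter M 0).d ≫ I.d 0 1 = 0 := by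
    rw [hd 0]; exact ModuleCat.hom_ext (exact_of_uex (hex 0)).linearMap_comp_eq_zero
  obtain ⟨η, hη⟩ : ∃ η : (CochainComplex.single₀ (ModuleCat.{u} R)).obj M ⟶ I,
      η.f 0 = (St.coiter M 0).d :=
    ⟨_, CochainComplex.fromSingle₀Equiv_symm_apply_f_zero (C := I) (X := M) (St.coiter M 0).d hc0⟩
  refine ⟨I, η, fun n => ?_, ⟨?_, ?_, ?_⟩⟩
  · cases n with
    | zero => exact pinj_character _
    | succ n => exact pinj_character _
  · rw [hη]
    exact ui_charEval M
  · rw [hη, hd 0]
    exact hex 0
  · intro n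
    rw [hd (n + 1), hd n]
    exact hex (n + 1)

theorem Summand.pproj {P : Type u} [AddCommGroup P] [Module R P] (h : Summand (R := R) P) : PProj R P := by
  obtain ⟨ι, Q, _, _, hfp, s, r, hrs⟩ := h
  exact pproj_of_retract s r hrs (pproj_dfinsupp fun i => pproj_of_fp (Q i) (hfp i))

end Groth.Agent.PureExtLib
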